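import Mathlib

set_option autoImplicit false
universe u

open TensorProduct

namespace Groth.Agent.Lib.Helper39.NormTensor

section Tor

variable (k : Type u) [Field k] (A B : Type u) [CommRing A] [CommRing B] [Algebra k A]
  [Algebra k B]

/-- If `b` is a nonzerodivisor of `B` and `r₁ * (1 ⊗ b) = r₂ * (a ⊗ 1)` in `A ⊗_k B`, then `r₁` is
divisible by `a ⊗ 1`. -/
theorem exists_eq_mul_of_mul_eq (a : A) (b : B) (hb : b ∈ nonZeroDivisors B)
    (r₁ r₂ : A ⊗[k] B) (h : r₁ * ((1 : A) ⊗ₜ[k] b) = r₂ * (a ⊗ₜ[k] (1 : B))) :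
    ∃ r : A ⊗[k] B, r₁ = (a ⊗ₜ[k] (1 : B)) * r := by
  let I : Ideal A := Ideal.span {a}
  let Ik : Submodule k A := I.restrictScalars k
  let π : A →ₗ[k] (A ⧸ I) := (Ideal.Quotient.mkₐ k I).toLinearMap
  let φ : A ⊗[k] B →ₗ[k] (A ⧸ I) ⊗[k] B := π.rTensor B
  let μ : B →ₗ[k] B := LinearMap.mulLeft k b
  have hμ : Function.Injective μ := by
    rw [injective_iff_map_eq_zero]
    intro x hx
    have hx' : x * b = 0 := by rw [mul_comm]; exact hx
    exact (mul_right_mem_nonZeroDivisors_eq_zero_iff hb).mp hx'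
  have hμ' : Function.Injective (μ.lTensor (A ⧸ I)) :=
    Module.Flat.lTensor_preserves_injective_linearMap μ hμ
  have h1 : ∀ r : A ⊗[k] B, φ (r * ((1 : A) ⊗ₜ[k] b)) = μ.lTensor (A ⧸ I) (φ r) := by
    intro r
    induction r using TensorProduct.induction_on with
    | zero => simp
    | tmul x y =>
      simp only [Algebra.TensorProduct.tmul_mul_tmul, mul_one, φ, LinearMap.rTensor_tmul,
        LinearMap.lTensor_tmul, μ, LinearMap.mulLeft_apply]
      rw [mul_comm]
    | add x y hx hy => rw [add_mul, map_add, map_add, map_add, hx, hy]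
  have h2 : ∀ r : A ⊗[k] B, φ (r * (a ⊗ₜ[k] (1 : B))) = 0 := by
    intro r
    induction r using TensorProduct.induction_on with
    | zero => simp
    | tmul x y =>
      simp only [Algebra.TensorProduct.tmul_mul_tmul, mul_one, φ, LinearMap.rTensor_tmul]
      have : π (x * a) = 0 := by
        show Ideal.Quotient.mk I (x * a) = 0
        rw [Ideal.Quotient.eq_zero_iff_mem]
        exact Ideal.mul_mem_left _ _ (Ideal.subset_span rfl)
      rw [this, zero_tmul]
    | add x y hx hy => rw [add_mul, map_add, hx, hy, add_zero]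
  have h3 : φ r₁ = 0 := by
    apply hμ'
    rw [← h1, h, h2, map_zero]
  have hex : Function.Exact (Ik.subtype.rTensor B) φ := by
    apply rTensor_exact B
    · intro x
      constructor
      · intro hx
        have : x ∈ I := by
          rw [← Ideal.Quotient.eq_zero_iff_mem]
          exact hx
        exact ⟨⟨x, this⟩, rfl⟩
      · rintro ⟨y, rfl⟩
        show Ideal.Quotient.mk I (y : A) = 0
        rw [Ideal.Quotient.eq_zero_iff_mem]
        exact y.2
    · exact Ideal.Quotient.mk_surjective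
  obtain ⟨w, hw⟩ := (hex r₁).mp h3
  rw [← hw]
  clear hw h3 h
  induction w using TensorProduct.induction_on with
  | zero => exact ⟨0, by simp⟩
  | tmul x y =>
    obtain ⟨c, hc⟩ := Ideal.mem_span_singleton'.mp x.2
    refine ⟨c ⊗ₜ[k] y, ?_⟩
    simp only [LinearMap.rTensor_tmul, Submodule.subtype_apply,
      Algebra.TensorProduct.tmul_mul_tmul, one_mul]
    rw [← hc, mul_comm]
  | add x y hx hy =>
    obtain ⟨r, hr⟩ := hx
    obtain ⟨r', hr'⟩ := hy
    exact ⟨r + r', by rw [map_add, hr, hr', mul_add]⟩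

end Tor

end Groth.Agent.Lib.Helper39.NormTensor
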