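import Mathlib
import Groth.Prelude.Def_EGA4b
import Groth.Agent.Lib.Helper39.NormTensor.Tor
import Groth.Agent.Lib.Helper97.NormalProd

set_option autoImplicit false
set_option linter.style.haveILetI false
set_option linter.unusedSectionVars false
universe u

open TensorProduct

namespace Groth.Agent.Lib.Helper39.NormTensor

open Groth.Agent.Lib.Helper97.NormalProd

section Basic

/-- A normal ring is reduced. -/
theorem isReduced_of_isNormalRing (R : Type u) [CommRing R] (h : EGA4.IsNormalRing R) :
    IsReduced R :=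
  isReduced_ofLocalizationMaximal R (fun J hJ => by
    haveI := hJ.isPrime
    haveI := (h J).1
    infer_instance)

end Basic

section Lift

variable {R : Type u} [CommRing R] (M : Submonoid R) (hM : M ≤ nonZeroDivisors R)
  (S : Type u) [CommRing S] [Algebra R S] [IsLocalization M S]

/-- the canonical map from a localization at nonzerodivisors to the total fraction ring -/
noncomputable def toFrac : S →+* FractionRing R :=
  IsLocalization.lift (M := M) (g := algebraMap R (FractionRing R))
    (fun y => IsLocalization.map_units (FractionRing R) (⟨y.1, hM y.2⟩ : nonZeroDivisors R))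

theorem toFrac_algebraMap (r : R) :
    toFrac M hM S (algebraMap R S r) = algebraMap R (FractionRing R) r :=
  IsLocalization.lift_eq _ r

theorem toFrac_injective : Function.Injective (toFrac M hM S) := by
  rw [injective_iff_map_eq_zero]
  intro y hy
  obtain ⟨r, m, rfl⟩ := IsLocalization.exists_mk'_eq M y
  rw [toFrac, IsLocalization.lift_mk'_spec, mul_zero] at hy
  have hr : r = 0 := IsFractionRing.injective R (FractionRing R) (by rw [hy, map_zero])
  rw [hr, IsLocalization.mk'_zero]

/-- An element of the total fraction ring integral over `R` lies in the image of a normal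
localization `S` of `R` at nonzerodivisors. -/
theorem mem_range_toFrac_of_isIntegral (hS : EGA4.IsNormalRing S) (x : FractionRing R)
    (hx : IsIntegral R x) : ∃ y : S, toFrac M hM S y = x := by
  letI : Algebra S (FractionRing R) := (toFrac M hM S).toAlgebra
  haveI : IsScalarTower R S (FractionRing R) := IsScalarTower.of_algebraMap_eq (fun r => by
    show _ = toFrac M hM S (algebraMap R S r)
    rw [toFrac_algebraMap])
  obtain ⟨⟨b, s⟩, hbs⟩ := IsLocalization.surj (nonZeroDivisors R) x
  have hxS : IsIntegral S x := hx.tower_top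
  have hu : IsUnit (algebraMap S (FractionRing R) (algebraMap R S s.1)) := by
    rw [← IsScalarTower.algebraMap_apply]
    exact IsLocalization.map_units _ s
  have := mem_range_of_isIntegral_of_normal (R := S) (K := FractionRing R)
    (toFrac_injective M hM S) (fun m _ => hS m) x hxS (algebraMap R S s.1) (algebraMap R S b) hu
    (by rw [← IsScalarTower.algebraMap_apply, ← IsScalarTower.algebraMap_apply, mul_comm]
        exact hbs)
  obtain ⟨y, hy⟩ := this
  exact ⟨y, hy⟩

end Lift

section NZD

variable (k : Type u) [Field k] (A B : Type u) [CommRing A] [CommRing B]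
  [Algebra k A] [Algebra k B]

theorem tmul_one_mem_nonZeroDivisors (a : A) (ha : a ∈ nonZeroDivisors A) :
    a ⊗ₜ[k] (1 : B) ∈ nonZeroDivisors (A ⊗[k] B) := by
  rw [mem_nonZeroDivisors_iff_right]
  intro r hr
  let μ : A →ₗ[k] A := LinearMap.mulLeft k a
  have hμ : Function.Injective μ := by
    rw [injective_iff_map_eq_zero]
    intro x hx
    have hx' : x * a = 0 := by rw [mul_comm]; exact hx
    exact (mul_right_mem_nonZeroDivisors_eq_zero_iff ha).mp hx'
  have hμ' : Function.Injective (μ.rTensor B) :=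
    Module.Flat.rTensor_preserves_injective_linearMap μ hμ
  apply hμ'
  rw [map_zero, ← hr]
  clear hr
  induction r using TensorProduct.induction_on with
  | zero => simp
  | tmul x y =>
    simp only [Algebra.TensorProduct.tmul_mul_tmul, mul_one, LinearMap.rTensor_tmul, μ,
      LinearMap.mulLeft_apply]
    rw [mul_comm]
  | add x y hx hy => rw [map_add, add_mul, hx, hy]

theorem one_tmul_mem_nonZeroDivisors (b : B) (hb : b ∈ nonZeroDivisors B) :
    (1 : A) ⊗ₜ[k] b ∈ nonZeroDivisors (A ⊗[k] B) := by
  rw [mem_nonZeroDivisors_iff_right]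
  intro r hr
  let μ : B →ₗ[k] B := LinearMap.mulLeft k b
  have hμ : Function.Injective μ := by
    rw [injective_iff_map_eq_zero]
    intro x hx
    have hx' : x * b = 0 := by rw [mul_comm]; exact hx
    exact (mul_right_mem_nonZeroDivisors_eq_zero_iff hb).mp hx'
  have hμ' : Function.Injective (μ.lTensor A) :=
    Module.Flat.lTensor_preserves_injective_linearMap μ hμ
  apply hμ'
  rw [map_zero, ← hr]
  clear hr
  induction r using TensorProduct.induction_on with
  | zero => simp
  | tmul x y =>
    simp only [Algebra.TensorProduct.tmul_mul_tmul, mul_one, LinearMap.lTensor_tmul, μ,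
      LinearMap.mulLeft_apply]
    rw [mul_comm]
  | add x y hx hy => rw [map_add, add_mul, hx, hy]

end NZD

section Main

variable (k : Type u) [Field k] (A B K L : Type u) [CommRing A] [CommRing B] [IsDomain A]
  [IsDomain B] [Algebra k A] [Algebra k B] [Field K] [Field L] [Algebra A K] [Algebra B L]
  [IsFractionRing A K] [IsFractionRing B L] [Algebra k K] [Algebra k L] [IsScalarTower k A K]
  [IsScalarTower k B L]

/-- **Stacks 06DF, key step.** If `K ⊗_k B` and `A ⊗_k L` are normal rings (`K`, `L` the fraction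
fields of the domains `A`, `B`) and `K ⊗_k B` has finitely many minimal primes, then `A ⊗_k B` is
a normal ring. -/
theorem isNormalRing_tensor_of_fractionFields
    (hfin : (minimalPrimes (K ⊗[k] B)).Finite)
    (h1 : EGA4.IsNormalRing (K ⊗[k] B)) (h2 : EGA4.IsNormalRing (A ⊗[k] L)) :
    EGA4.IsNormalRing (A ⊗[k] B) := by
  let g1 : (A ⊗[k] B) →ₐ[k] (K ⊗[k] B) :=
    Algebra.TensorProduct.map (IsScalarTower.toAlgHom k A K) (AlgHom.id k B)
  let g2 : (A ⊗[k] B) →ₐ[k] (A ⊗[k] L) :=
    Algebra.TensorProduct.map (AlgHom.id k A) (IsScalarTower.toAlgHom k B L)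
  have hg1 : Function.Injective g1 := by
    have : Function.Injective ((IsScalarTower.toAlgHom k A K).toLinearMap.rTensor B) :=
      Module.Flat.rTensor_preserves_injective_linearMap _ (IsFractionRing.injective A K)
    intro x y hxy
    exact this hxy
  -- the algebra structures
  letI alg1 : Algebra (A ⊗[k] B) (K ⊗[k] B) := g1.toRingHom.toAlgebra
  haveI : IsScalarTower A (A ⊗[k] B) (K ⊗[k] B) := IsScalarTower.of_algebraMap_eq' (by
    ext x
    change _ = g1 (x ⊗ₜ[k] 1)
    simp [g1, Algebra.TensorProduct.algebraMap_apply])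
  have H1 : (algebraMap (A ⊗[k] B) (K ⊗[k] B)).comp
      Algebra.TensorProduct.includeRight.toRingHom =
      Algebra.TensorProduct.includeRight.toRingHom := by
    ext b
    change g1 ((1 : A) ⊗ₜ[k] b) = (1 : K) ⊗ₜ[k] b
    simp [g1]
  haveI hloc1 : IsLocalization (Algebra.algebraMapSubmonoid (A ⊗[k] B) (nonZeroDivisors A))
      (K ⊗[k] B) := IsLocalization.tensorProduct_tensorProduct k B (nonZeroDivisors A) K H1
  letI alg2 : Algebra (A ⊗[k] B) (A ⊗[k] L) := g2.toRingHom.toAlgebra
  haveI : IsScalarTower A (A ⊗[k] B) (A ⊗[k] L) := IsScalarTower.of_algebraMap_eq' (by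
    ext x
    change _ = g2 (x ⊗ₜ[k] 1)
    simp [g2, Algebra.TensorProduct.algebraMap_apply])
  have H2 : (algebraMap (A ⊗[k] B) (A ⊗[k] L)).comp
      Algebra.TensorProduct.includeRight.toRingHom =
      Algebra.TensorProduct.includeRight.toRingHom.comp (algebraMap B L) := by
    ext b
    change g2 ((1 : A) ⊗ₜ[k] b) = (1 : A) ⊗ₜ[k] (algebraMap B L b)
    simp [g2]
  haveI hloc2 : IsLocalization
      ((nonZeroDivisors B).map (Algebra.TensorProduct.includeRight (R := k) (A := A)))
      (A ⊗[k] L) := IsLocalization.tensorProduct_tensorProduct_right k A (nonZeroDivisors B) L H2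
  have hM1 : Algebra.algebraMapSubmonoid (A ⊗[k] B) (nonZeroDivisors A) ≤
      nonZeroDivisors (A ⊗[k] B) := by
    rintro _ ⟨a, ha, rfl⟩
    rw [Algebra.TensorProduct.algebraMap_apply]
    exact tmul_one_mem_nonZeroDivisors k A B _ ha
  have hM2 : (nonZeroDivisors B).map (Algebra.TensorProduct.includeRight (R := k) (A := A)) ≤
      nonZeroDivisors (A ⊗[k] B) := by
    rintro _ ⟨b, hb, rfl⟩
    exact one_tmul_mem_nonZeroDivisors k A B b hb
  -- reducedness and finiteness of minimal primes
  haveI hred1 : IsReduced (K ⊗[k] B) := isReduced_of_isNormalRing _ h1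
  haveI hred : IsReduced (A ⊗[k] B) := isReduced_of_injective g1 hg1
  have hfinR : (minimalPrimes (A ⊗[k] B)).Finite := by
    have hsub := Ideal.minimalPrimes_comap_subset g1.toRingHom (⊥ : Ideal (K ⊗[k] B))
    have hker : (⊥ : Ideal (K ⊗[k] B)).comap g1.toRingHom = ⊥ := by
      rw [← RingHom.ker_eq_comap_bot]
      exact (RingHom.injective_iff_ker_eq_bot _).mp hg1
    rw [hker] at hsub
    exact (hfin.image _).subset hsub
  intro p hp
  refine isNormal_of_isIntegrallyClosedIn hfinR ?_ p
  refine ⟨IsFractionRing.injective _ _, fun {x} => ⟨fun hx => ?_, ?_⟩⟩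
  · obtain ⟨y1, hy1⟩ := mem_range_toFrac_of_isIntegral _ hM1 (K ⊗[k] B) h1 x hx
    obtain ⟨y2, hy2⟩ := mem_range_toFrac_of_isIntegral _ hM2 (A ⊗[k] L) h2 x hx
    obtain ⟨⟨r1, m1⟩, hr1⟩ := IsLocalization.surj
      (Algebra.algebraMapSubmonoid (A ⊗[k] B) (nonZeroDivisors A)) y1
    obtain ⟨⟨r2, m2⟩, hr2⟩ := IsLocalization.surj
      ((nonZeroDivisors B).map (Algebra.TensorProduct.includeRight (R := k) (A := A))) y2
    simp only at hr1 hr2
    obtain ⟨a, ha, hm1⟩ := m1.2
    obtain ⟨b, hb, hm2⟩ := m2.2
    have hm1' : (m1 : A ⊗[k] B) = a ⊗ₜ[k] (1 : B) := by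
      rw [← hm1, Algebra.TensorProduct.algebraMap_apply]; rfl
    have hm2' : (m2 : A ⊗[k] B) = (1 : A) ⊗ₜ[k] b := by
      rw [← hm2]; rfl
    -- equations in the fraction ring
    have e1 : x * algebraMap _ (FractionRing (A ⊗[k] B)) (m1 : A ⊗[k] B) =
        algebraMap _ (FractionRing (A ⊗[k] B)) r1 := by
      rw [← hy1, ← toFrac_algebraMap _ hM1 (K ⊗[k] B), ← map_mul, hr1, toFrac_algebraMap]
    have e2 : x * algebraMap _ (FractionRing (A ⊗[k] B)) (m2 : A ⊗[k] B) =
        algebraMap _ (FractionRing (A ⊗[k] B)) r2 := by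
      rw [← hy2, ← toFrac_algebraMap _ hM2 (A ⊗[k] L), ← map_mul, hr2, toFrac_algebraMap]
    have e3 : r1 * (m2 : A ⊗[k] B) = r2 * (m1 : A ⊗[k] B) := by
      apply IsFractionRing.injective (A ⊗[k] B) (FractionRing (A ⊗[k] B))
      rw [map_mul, map_mul, ← e1, ← e2]
      ring
    rw [hm1', hm2'] at e3
    obtain ⟨r, hr⟩ := exists_eq_mul_of_mul_eq k A B a b hb r1 r2 e3
    refine ⟨r, ?_⟩
    have hu : IsUnit (algebraMap _ (FractionRing (A ⊗[k] B)) (m1 : A ⊗[k] B)) :=
      IsLocalization.map_units _ (⟨m1.1, hM1 m1.2⟩ : nonZeroDivisors (A ⊗[k] B))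
    apply hu.mul_right_cancel
    rw [e1, hr, ← hm1', map_mul, mul_comm]
  · rintro ⟨y, rfl⟩
    exact isIntegral_algebraMap

end Main

end Groth.Agent.Lib.Helper39.NormTensor
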