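import Mathlib
import Groth.Prelude.Def_EGA4b
import Groth.Agent.S6280

/-!
# A directed union of normal subrings is a normal ring (helper39)

Uses helper92's abstract `Groth.Agent.S6280.Sys` criterion.
-/

set_option autoImplicit false
set_option linter.unusedSectionVars false
universe u

namespace Groth.Agent.Lib.Helper39.NormTensor

open Groth.Agent.S6280

section DirUnion

variable {R : Type u} [CommRing R] {ι : Type u} (S : ι → Subring R)
  (Q : Ideal R) [Q.IsPrime]

/-- contraction of `Q` to the subring `S i` -/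
noncomputable abbrev qq (i : ι) : Ideal (S i) := Q.comap (S i).subtype

noncomputable abbrev lamS (i : ι) : Localization.AtPrime (qq S Q i) →+* Localization.AtPrime Q :=
  Localization.localRingHom (qq S Q i) Q (S i).subtype rfl

theorem qq_eq {i j : ι} (h : S i ≤ S j) :
    qq S Q i = (qq S Q j).comap (Subring.inclusion h) := by
  unfold qq
  rw [Ideal.comap_comap]
  rfl

noncomputable abbrev ggS {i j : ι} (h : S i ≤ S j) :
    Localization.AtPrime (qq S Q i) →+* Localization.AtPrime (qq S Q j) :=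
  Localization.localRingHom (qq S Q i) (qq S Q j) (Subring.inclusion h) (qq_eq S Q h)

theorem lamS_ggS {i j : ι} (h : S i ≤ S j) (x : Localization.AtPrime (qq S Q i)) :
    lamS S Q j (ggS S Q h x) = lamS S Q i x := by
  have := Localization.localRingHom_unique (qq S Q i) Q (S i).subtype rfl
    (j := (lamS S Q j).comp (ggS S Q h)) (fun r => by
      rw [RingHom.comp_apply, Localization.localRingHom_to_map, Localization.localRingHom_to_map]
      rfl)
  exact (DFunLike.congr_fun this x).symm

theorem sysS (hdir : Directed (· ≤ ·) S) (hcov : ∀ x : R, ∃ i, x ∈ S i) :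
    Sys (fun i => Localization.AtPrime (qq S Q i)) (fun i => lamS S Q i) where
  surj := by
    intro x
    obtain ⟨r, s, rfl⟩ := IsLocalization.exists_mk'_eq Q.primeCompl x
    obtain ⟨i₁, hr₁⟩ := hcov r
    obtain ⟨i₂, hs₂⟩ := hcov (s : R)
    obtain ⟨k, h1, h2⟩ := hdir i₁ i₂
    have hs' : (⟨(s : R), h2 hs₂⟩ : S k) ∈ (qq S Q k).primeCompl := by
      show ¬ ((S k).subtype ⟨(s : R), h2 hs₂⟩ ∈ Q)
      exact s.2
    refine ⟨k, IsLocalization.mk' _ (⟨r, h1 hr₁⟩ : S k) ⟨⟨(s : R), h2 hs₂⟩, hs'⟩, ?_⟩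
    show lamS S Q k _ = _
    rw [Localization.localRingHom_mk', IsLocalization.mk'_eq_iff_eq]
    rfl
  dir := by
    intro i j
    obtain ⟨k, h1, h2⟩ := hdir i j
    exact ⟨k, ggS S Q h1, ggS S Q h2, lamS_ggS S Q h1, lamS_ggS S Q h2⟩
  zero := by
    intro i s h0
    obtain ⟨r, t, rfl⟩ := IsLocalization.exists_mk'_eq (qq S Q i).primeCompl s
    have h0' : lamS S Q i (IsLocalization.mk' _ r t) = 0 := h0
    rw [Localization.localRingHom_mk', IsLocalization.mk'_eq_zero_iff] at h0'
    obtain ⟨u, hu⟩ := h0'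
    obtain ⟨i', hu'⟩ := hcov (u : R)
    obtain ⟨k, h1, h2⟩ := hdir i i'
    refine ⟨k, ggS S Q h1, lamS_ggS S Q h1, ?_⟩
    show ggS S Q h1 (IsLocalization.mk' _ r t) = 0
    rw [Localization.localRingHom_mk', IsLocalization.mk'_eq_zero_iff]
    have hmem : (⟨(u : R), h2 hu'⟩ : S k) ∈ (qq S Q k).primeCompl := by
      show ¬ ((S k).subtype ⟨(u : R), h2 hu'⟩ ∈ Q)
      exact u.2
    refine ⟨⟨_, hmem⟩, ?_⟩
    apply Subtype.ext
    exact hu

/-- A ring which is a directed union of normal subrings is a normal ring. -/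
theorem isNormalRing_of_directed_subrings (hdir : Directed (· ≤ ·) S)
    (hcov : ∀ x : R, ∃ i, x ∈ S i) (hn : ∀ i, EGA4.IsNormalRing (S i)) :
    EGA4.IsNormalRing R := by
  intro Q hQ
  have hsys := sysS S Q hdir hcov
  have : ∀ i, IsDomain (Localization.AtPrime (qq S Q i)) := fun i => (hn i (qq S Q i)).1
  have : ∀ i, IsIntegrallyClosed (Localization.AtPrime (qq S Q i)) :=
    fun i => (hn i (qq S Q i)).2
  have hdom : IsDomain (Localization.AtPrime Q) := isDomain_of hsys
  exact ⟨hdom, isIntegrallyClosed_of hsys⟩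

end DirUnion

end Groth.Agent.Lib.Helper39.NormTensor
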