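import Mathlib
import Groth.Prelude.Def_EGA4b
import Groth.Agent.Lib.Helper39.NormTensor.GeomField
import Groth.Agent.S1560

set_option autoImplicit false
set_option linter.style.haveILetI false
set_option linter.unusedSectionVars false
universe u

open TensorProduct

namespace Groth.Agent.Lib.Helper39.NormTensor

open Groth.Agent.Lib.Helper49.NormalHom Groth.Agent.Lib.Helper49.GeomNormalExt

section PI

variable (k : Type u) [Field k] (A : Type u) [CommRing A] [Algebra k A]

/-- normality over all finite purely inseparable extensions gives normality over the perfect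
closure -/
theorem isNormalRing_perfectClosure_tensor
    (hA : ∀ (k' : Type u) [Field k'] [Algebra k k'] [FiniteDimensional k k']
      [IsPurelyInseparable k k'], EGA4.IsNormalRing (k' ⊗[k] A)) :
    EGA4.IsNormalRing (perfectClosure k (AlgebraicClosure k) ⊗[k] A) := by
  let P := perfectClosure k (AlgebraicClosure k)
  let ι := {E : IntermediateField k P // FiniteDimensional k E}
  let Cs : ι → Subalgebra k P := fun E => E.1.toSubalgebra
  refine isNormalRing_tensor_of_directed k A P Cs ?_ ?_ ?_
  · intro E₁ E₂
    haveI := E₁.2
    haveI := E₂.2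
    exact ⟨⟨E₁.1 ⊔ E₂.1, IntermediateField.finiteDimensional_sup E₁.1 E₂.1⟩,
      (IntermediateField.toSubalgebra_le_toSubalgebra).mpr le_sup_left,
      (IntermediateField.toSubalgebra_le_toSubalgebra).mpr le_sup_right⟩
  · intro c
    have hc : IsIntegral k c := Algebra.IsIntegral.isIntegral c
    refine ⟨⟨IntermediateField.adjoin k {c}, IntermediateField.adjoin.finiteDimensional hc⟩, ?_⟩
    exact IntermediateField.subset_adjoin k {c} (Set.mem_singleton c)
  · intro E
    show EGA4.IsNormalRing (↥E.1 ⊗[k] A)
    haveI := E.2
    haveI : IsPurelyInseparable k E.1 := IsPurelyInseparable.tower_bot k E.1 P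
    exact hA E.1

attribute [local instance] Algebra.TensorProduct.rightAlgebra in
/-- if `P ⊗_k A` is normal for some perfect extension field `P/k`, then `L ⊗_k A` is normal for
every field extension `L/k` -/
theorem isNormalRing_field_tensor_of_perfect (P : Type u) [Field P] [Algebra k P] [PerfectField P]
    (h1 : EGA4.IsNormalRing (P ⊗[k] A)) (L : Type u)
    [Field L] [Algebra k L] : EGA4.IsNormalRing (L ⊗[k] A) := by
  obtain ⟨M, hM⟩ := Ideal.exists_maximal (L ⊗[k] P)
  letI : Field ((L ⊗[k] P) ⧸ M) := Ideal.Quotient.field M
  let K' := (L ⊗[k] P) ⧸ M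
  haveI : IsScalarTower k P K' := inferInstance
  haveI : IsScalarTower k L K' := inferInstance
  haveI : Algebra.IsGeometricallyReduced P K' :=
    Groth.Agent.S1560.isGeometricallyReduced_of_perfectField P K'
  have h2 : EGA4.IsNormalRing (K' ⊗[P] (P ⊗[k] A)) :=
    isNormalRing_tensor_of_isGeometricallyReduced P (P ⊗[k] A) K' h1
  have h3 : EGA4.IsNormalRing (K' ⊗[k] A) :=
    isNormalRing_of_ringEquiv (Algebra.TensorProduct.cancelBaseChange k P P K' A).toRingEquiv h2
  exact isNormalRing_tensor_of_tower k L K' A h3

/-- **Geometric normality via purely inseparable extensions** (EGA IV 6.7.7, no Noetherian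
hypotheses): if `k' ⊗_k A` is normal for all finite purely inseparable extensions `k'/k`, then
`L ⊗_k A` is normal for every field extension `L/k`. -/
theorem isNormalRing_field_tensor_of_forall_purelyInseparable
    (hA : ∀ (k' : Type u) [Field k'] [Algebra k k'] [FiniteDimensional k k']
      [IsPurelyInseparable k k'], EGA4.IsNormalRing (k' ⊗[k] A)) (L : Type u)
    [Field L] [Algebra k L] : EGA4.IsNormalRing (L ⊗[k] A) :=
  isNormalRing_field_tensor_of_perfect k A (perfectClosure k (AlgebraicClosure k))
    (isNormalRing_perfectClosure_tensor k A hA) L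

end PI

section Max

/-- normality can be checked at maximal ideals -/
theorem isNormalRing_of_forall_isMaximal (R : Type u) [CommRing R]
    (h : ∀ (M : Ideal R) [M.IsMaximal],
      IsDomain (Localization.AtPrime M) ∧ IsIntegrallyClosed (Localization.AtPrime M)) :
    EGA4.IsNormalRing R := by
  intro Q hQ
  obtain ⟨M, hM, hQM⟩ := Ideal.exists_le_maximal Q hQ.ne_top
  obtain ⟨hd, hic⟩ := h M
  refine Groth.Agent.Lib.Helper69.NormalSmooth.localization_transfer M.primeCompl Q ?_
    (Groth.Agent.Lib.Helper49.EtaleNormal.isNormalRing_of_isIntegrallyClosed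
      (Localization.AtPrime M))
  rw [Set.disjoint_left]
  intro a ha haQ
  exact ha (hQM haQ)

end Max

end Groth.Agent.Lib.Helper39.NormTensor
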